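import Groth.Agent.QcMonoLib.DiagQAff
import Groth.Agent.ASt.DiagAbs
import Groth.Agent.WNALib.Basic
import Groth.Agent.S10537
import Groth.Agent.QAffLib.Basic
/-!
Quasi-affine diagonals and quasi-affine maps from affine schemes.
-/

set_option autoImplicit false
set_option backward.isDefEq.respectTransparency false
set_option backward.isDefEq.respectTransparency.types false
set_option linter.unusedSectionVars false
set_option linter.style.haveILetI false

universe u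

open CategoryTheory CategoryTheory.Limits AlgebraicGeometry Opposite

namespace Groth.Agent.QAffDiagLib

open _root_.AlgSp Groth.Agent.ASp Groth.Agent.ASt Groth.Agent.QcMonoLib

variable {S : Scheme.{u}}

/-- A map from a quasi-affine scheme to an affine scheme is quasi-affine. -/
theorem isQuasiAffineMor_of_qaff_scheme {F : Sp S} {W V : Over S} [IsAffine V.left] [W.left.IsQuasiAffine]
    (e : (yon S).obj W ≅ F) (f : F ⟶ (yon S).obj V) : IsQuasiAffineMor f := by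
  intro Z hZ g
  haveI := hZ
  obtain ⟨f₀, hf₀⟩ := (yon S).map_surjective (e.hom ≫ f)
  obtain ⟨g₀, rfl⟩ := (yon S).map_surjective g
  refine ⟨pullback f₀ g₀, pullback.snd f₀ g₀, (yon S).map (pullback.fst f₀ g₀) ≫ e.hom,
    IsPullback.of_iso ((IsPullback.of_hasPullback f₀ g₀).map (yon S)) (Iso.refl _) e (Iso.refl _) (Iso.refl _)
      (by simp) (by simp) (by simp [hf₀]) (by simp), ?_⟩
  haveI : IsAffineHom g₀.left := isAffineHom_of_isAffine _
  haveI : IsAffineHom (pullback.fst f₀ g₀).left :=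
    MorphismProperty.of_isPullback (isPullback_left (IsPullback.of_hasPullback f₀ g₀)).flip ‹_›
  exact Scheme.IsQuasiAffine.of_isAffineHom (pullback.fst f₀ g₀).left

/-- The source of a quasi-affine map to an affine scheme is a quasi-affine scheme. -/
theorem exists_qaff_scheme {F : Sp S} {Z : Over S} [IsAffine Z.left] {f : F ⟶ (yon S).obj Z}
    (h : IsQuasiAffineMor f) : ∃ W : Over S, W.left.IsQuasiAffine ∧ Nonempty ((yon S).obj W ≅ F) := by
  obtain ⟨W, i, fst, sq, hW⟩ := h ‹IsAffine Z.left› (𝟙 _)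
  haveI := sq.isIso_fst_of_isIso
  exact ⟨W, hW, ⟨asIso fst⟩⟩

theorem isQuasiAffineMor_comp {X Y Z : Sp S} (hX : IsAlgSpace X) (hY : IsAlgSpace Y) {a : X ⟶ Y} {b : Y ⟶ Z}
    (ha : IsQuasiAffineMor a) (hb : IsQuasiAffineMor b) : IsQuasiAffineMor (a ≫ b) := by
  intro T hT g
  obtain ⟨W, i, fst, sq, hW⟩ := hb hT g
  haveI := hW
  obtain ⟨W', v', fst', sq'⟩ : ∃ (W' : Over S) (v' : W' ⟶ W) (fst' : (yon S).obj W' ⟶ X),
      IsPullback fst' ((yon S).map v') a fst :=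
    ⟨_, _, _, (representable_of_isQuasiAffineMor hX hY ha).isPullback fst⟩
  refine ⟨W', v' ≫ i, fst', by rw [Functor.map_comp]; exact sq'.paste_vert sq, ?_⟩
  have key : ∀ A : W.left.Opens, IsAffineOpen A → (v'.left ⁻¹ᵁ A : Scheme.{u}).IsQuasiAffine := fun A hA => by
    let j : Over.mk (A.ι ≫ W.hom) ⟶ W := Over.homMk A.ι rfl
    obtain ⟨W'', c, fst'', sq'', hW''⟩ := ha (Z := Over.mk (A.ι ≫ W.hom)) hA ((yon S).map j ≫ fst)
    haveI := hW''
    obtain ⟨d, hd⟩ := (yon S).map_surjective (sq'.lift fst'' ((yon S).map c ≫ (yon S).map j)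
      (by rw [sq''.w, Category.assoc]))
    have hd1 : (yon S).map d ≫ fst' = fst'' := by rw [hd, sq'.lift_fst]
    have sq3 : IsPullback ((yon S).map d) ((yon S).map c) ((yon S).map v') ((yon S).map j) := by
      refine IsPullback.of_right ?_ (by rw [hd, sq'.lift_snd]) sq'
      rw [hd1]
      exact sq''
    exact QAffLib.of_iso ((isPullback_morphismRestrict v'.left A).flip.isoIsPullback _ _
      (isPullback_left (isPullback_of_yon_map sq3))).hom
  refine QAffLib.qa_source v'.left ⟨(quasiCompact_iff_forall_isAffineOpen).2 fun A hA => ?_, key⟩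
  haveI := key A hA
  exact isCompact_iff_compactSpace.2 (inferInstanceAs (CompactSpace ↥(v'.left ⁻¹ᵁ A).toScheme))

theorem isLocalOnBase_fppf : IsLocalOnBase (IsFppfCover (S := S)) IsQuasiAffineMor := by
  intro ι Y Yi g hY hYi hτ X f hX Xi p q hXi hsq
  exact Groth.Agent.S10537.result S Yi g hY hYi
    (isFpqcCover_of_fppf hY hYi (fun i => (hτ.1 i).1) (fun i => (hτ.1 i).2) hτ.2) f hX Xi p q hXi hsq

theorem compLocal_qaff : CompLocal (IsQuasiAffineMor : MorphismProperty (Sp S)) :=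
  compLocal_of_fppf (fun _ _ _ hX hY _ _ _ => isQuasiAffineMor_comp hX hY) isLocalOnBase_fppf

theorem hPb_qaff : ∀ ⦃X₁ Y₁ X₂ Y₂ : Sp S⦄, IsAlgSpace X₁ → IsAlgSpace Y₁ → IsAlgSpace X₂ →
    IsAlgSpace Y₂ → ∀ (a : X₁ ⟶ Y₁) (b : Y₂ ⟶ Y₁) (a' : X₂ ⟶ Y₂) (b' : X₂ ⟶ X₁),
    IsPullback b' a' a b → IsQuasiAffineMor a → IsQuasiAffineMor a' :=
  fun _ _ _ _ _ _ _ _ _ _ _ _ sq h => isQuasiAffineMor_baseChange sq h

variable {𝒳 𝒴 : AlgSt.Cat S} [h𝒳 : FibCat.IsFibGrpd 𝒳.p] [h𝒴 : FibCat.IsFibGrpd 𝒴.p] {P : MorphismProperty (Sp S)}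
  {f : 𝒳 ⥤ᵇ 𝒴}

/-- A property local on the base is tested on a jointly surjective fppf family of the test scheme. -/
theorem fibHas_of_family (hP₂ : IsLocalOnBase IsFppfCover P) (hf : AlgSt.RepByAlgSp1 f) {U : Over S}
    {ι : Type u} (T : ι → Over S) (l : ∀ i, T i ⟶ U) (hl : ∀ i, Flat (l i).left)
    (hl' : ∀ i, LocallyOfFinitePresentation (l i).left) (hcov : ∀ z, ∃ i, z ∈ Set.range (l i).left)
    (y : FibCat.overCat U ⥤ᵇ 𝒴) (h : ∀ i, FibHas P (BasedFunctor.comp (AlgSt.overMap (l i)) y) f) :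
    FibHas P y f := by
  obtain ⟨hs, hA⟩ := (repByAlgSp1_iff.1 hf).2 U y
  choose hs' hA' hP using h
  refine ⟨hs, hA, (hP₂ (fun i => (yon S).obj (T i)) (fun i => (yon S).map (l i)) (IsAlgSpace.yon_obj U)
    (fun _ => IsAlgSpace.yon_obj _)
    ⟨fun i => ⟨locP_of_prop_left (hl i), locP_of_prop_left (hl' i)⟩, fun x => ?_⟩
    _ hA (fun _ => _) (fun _ => _) (fun _ => _) hA'
    (fun i => IsPullback.of_map_of_faithful (sheafToPresheaf (J S) (Type (u + 1))) (isPullback_restrF (l i) y) :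
      ∀ i, IsPullback (ObjectProperty.homMk (clFun (restrF (l i) y f)) :
          (⟨fib (BasedFunctor.comp (AlgSt.overMap (l i)) y) f, hs' i⟩ : Sp S) ⟶ (⟨fib y f, hs⟩ : Sp S))
        (ObjectProperty.homMk (fibπ (BasedFunctor.comp (AlgSt.overMap (l i)) y) f))
        (ObjectProperty.homMk (fibπ y f)) ((yon S).map (l i)))).2 hP⟩
  obtain ⟨z, rfl⟩ := (Points.schemeHomeo U).surjective x
  obtain ⟨i, t, rfl⟩ := hcov z
  exact ⟨i, Points.schemeHomeo (T i) t, Points.map_yon_map_apply (l i) t⟩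

/-- With quasi-affine diagonal, maps from affine schemes are quasi-affine. -/
theorem qaff_of_diag [IsAffine S] (hΔ : AlgSt.RepByAlgSpWith IsQuasiAffineMor (FibCat.diag (FibCat.toSelf 𝒳)))
    (T : Over S) [IsAffine T.left] (x : FibCat.overCat T ⥤ᵇ 𝒳) : AlgSt.RepByAlgSpWith IsQuasiAffineMor x := by
  refine repByAlgSpWith_of_comp compLocal_qaff (g := FibCat.toSelf 𝒳) ?_ hΔ
  let B : Over S := Over.mk (𝟙 S)
  let σ : T ⟶ B := Over.homMk T.hom (Category.comp_id _)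
  haveI : IsAffine B.left := ‹IsAffine S›
  have h : AlgSt.RepByAlgSpWith IsQuasiAffineMor (AlgSt.overMap σ) :=
    repByAlgSpWith_overMap fun {Z V} k a b hb => by
      intro Z' hZ' g
      haveI := hZ'
      obtain ⟨g₀, rfl⟩ := (yon S).map_surjective g
      refine ⟨pullback b g₀, pullback.snd b g₀, (yon S).map (pullback.fst b g₀),
        (IsPullback.of_hasPullback b g₀).map (yon S), ?_⟩
      haveI : IsAffineHom σ.left := isAffineHom_of_isAffine T.hom
      haveI : IsAffineHom b.left := MorphismProperty.of_isPullback (isPullback_left hb) ‹_›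
      haveI : IsAffineHom (pullback.snd b g₀).left :=
        MorphismProperty.of_isPullback (isPullback_left (IsPullback.of_hasPullback b g₀)) ‹_›
      haveI : IsAffine (pullback b g₀).left := isAffine_of_isAffineHom (pullback.snd b g₀).left
      infer_instance
  have hE : FibCat.IsEquivOver (FibCat.toSelf (FibCat.overCat B)) :=
    isEquivOver_of_bijective _ fun T => ⟨fun a b _ => (bijective_overHom T).1 (Over.OverMorphism.ext (by
      simpa [B] using (Over.w (overHom a)).trans (Over.w (overHom b)).symm)), fun c => by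
      obtain ⟨t, ht, rfl⟩ := cl_exists c
      exact ⟨cl (ov (Over.homMk T.hom (Category.comp_id _) : T ⟶ B)) rfl,
        cl_eq_iff.2 ⟨eqToHom ht.symm, eqToHom_map _ _⟩⟩⟩
  rw [comp_toSelf x, ← comp_toSelf (AlgSt.overMap σ)]
  exact repByAlgSpWith_comp_equiv hE h

/-- Maps from affine schemes being quasi-affine makes the diagonal quasi-affine. -/
theorem diag_of_qaff
    (hΔ : AlgSt.RepByAlgSp1 (FibCat.diag (FibCat.toSelf 𝒳)))
    (h : ∀ (T : Over S), IsAffine T.left → ∀ x : FibCat.overCat T ⥤ᵇ 𝒳, AlgSt.RepByAlgSpWith IsQuasiAffineMor x) :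
    AlgSt.RepByAlgSpWith IsQuasiAffineMor (FibCat.diag (FibCat.toSelf 𝒳)) := by
  haveI : (FibCat.diag (FibCat.toSelf 𝒳)).toFunctor.Faithful := faithful_diag _
  haveI : FibCat.IsFibGrpd (FibCat.fp (FibCat.toSelf 𝒳) (FibCat.toSelf 𝒳)).p := isFibGrpd_fp
  refine repByAlgSpWith_iff.2 ⟨inferInstance, fun U₀ w₀ => ?_⟩
  refine fibHas_of_family isLocalOnBase_fppf hΔ (fun A : U₀.left.affineOpens => Over.mk (A.1.ι ≫ U₀.hom))
    (fun A => Over.homMk A.1.ι rfl) (fun A => inferInstanceAs (Flat A.1.ι))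
    (fun A => inferInstanceAs (LocallyOfFinitePresentation A.1.ι)) (fun z => ?_) w₀ fun A => ?_
  · obtain ⟨A, hA, hzA, -⟩ := exists_isAffineOpen_mem_and_subset (show z ∈ (⊤ : U₀.left.Opens) from trivial)
    exact ⟨⟨A, hA⟩, ⟨z, hzA⟩, rfl⟩
  let U : Over S := Over.mk (A.1.ι ≫ U₀.hom)
  haveI : IsAffine U.left := A.2
  let w : FibCat.overCat U ⥤ᵇ FibCat.fp (FibCat.toSelf 𝒳) (FibCat.toSelf 𝒳) :=
    BasedFunctor.comp (AlgSt.overMap (Over.homMk A.1.ι rfl : U ⟶ U₀)) w₀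
  show FibHas _ w _
  obtain ⟨hs, hA', hq⟩ := (repByAlgSpWith_iff.1 (h U A.2 (testSnd w))).2 U (testFst w)
  let F : Sp S := ⟨fib (testFst w) (testSnd w), hs⟩
  let p₁ : F ⟶ (yon S).obj U := ObjectProperty.homMk (fibπ _ _)
  let p₂ : F ⟶ (yon S).obj U := ObjectProperty.homMk (sndπ w)
  obtain ⟨W, hW, ⟨eF⟩⟩ := exists_qaff_scheme (f := p₁) hq
  obtain ⟨a₀, ha₀⟩ := (yon S).map_surjective (eF.hom ≫ p₁)
  obtain ⟨b₀, hb₀⟩ := (yon S).map_surjective (eF.hom ≫ p₂)
  let i : (yon S).obj (equalizer a₀ b₀) ≅ equalizer p₁ p₂ :=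
    PreservesEqualizer.iso (yon S) a₀ b₀ ≪≫
      HasLimit.isoOfNatIso (parallelPair.ext eF (Iso.refl _) (by simp [ha₀]) (by simp [hb₀]))
  have hl := isLimitForkMapOfIsLimit (sheafToPresheaf (J S) (Type (u + 1))) (equalizer.condition p₁ p₂)
    (equalizerIsEqualizer p₁ p₂)
  let G : PSp S := fib w (FibCat.diag (FibCat.toSelf 𝒳))
  have hw : clFun (absF w) ≫ p₁.hom = clFun (absF w) ≫ p₂.hom := by
    ext T c
    exact congrArg ULift.up ((fpHom_absF w T.unop c).1.trans (fpHom_absF w T.unop c).2.symm)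
  let l : G ⟶ (equalizer p₁ p₂).obj := Fork.IsLimit.lift hl (clFun (absF w)) hw
  have hli : l ≫ (equalizer.ι p₁ p₂).hom = clFun (absF w) := Fork.IsLimit.lift_ι' hl _ _
  have hmono : Mono (equalizer.ι p₁ p₂).hom := mono_of_isLimit_fork hl
  have : ∀ T, IsIso (l.app T) := fun T => (isIso_iff_bijective _).2 <| by
    have hinj : Function.Injective ((equalizer.ι p₁ p₂).hom.app T) := (mono_iff_injective _).1 inferInstance
    have happ : ∀ c, (equalizer.ι p₁ p₂).hom.app T (l.app T c) = clF (absF w) T.unop c := fun c =>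
      congrArg (fun φ => φ.app T c) hli
    refine ⟨fun c c' e => ?_, fun d => ?_⟩
    · have hc : clF (absF w) T.unop c = clF (absF w) T.unop c' := by rw [← happ, ← happ, e]
      refine (existsUnique_absF w T.unop _ ?_).unique rfl hc.symm
      exact (fpHom_absF w T.unop c).1.trans (fpHom_absF w T.unop c).2.symm
    · obtain ⟨c, hc, -⟩ := existsUnique_absF w T.unop ((equalizer.ι p₁ p₂).hom.app T d)
        (congrArg ULift.down (congrArg (fun φ => φ.hom.app T d) (equalizer.condition p₁ p₂)))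
      exact ⟨c, hinj ((happ c).trans hc)⟩
  have : IsIso l := NatIso.isIso_of_isIso_app _
  obtain ⟨hs', hA''⟩ := ((isAlgSpaceP_obj_iff _).2 (IsAlgSpace.yon_obj (equalizer a₀ b₀))).of_iso
    ((sheafToPresheaf (J S) (Type (u + 1))).mapIso i ≪≫ (asIso l).symm)
  haveI := hW
  haveI : IsClosedImmersion (equalizer.ι a₀ b₀).left := inferInstance
  haveI : (equalizer a₀ b₀).left.IsQuasiAffine := Scheme.IsQuasiAffine.of_isAffineHom (equalizer.ι a₀ b₀).left
  exact ⟨hs', hA'', isQuasiAffineMor_of_qaff_scheme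
    (i ≪≫ (fullyFaithfulSheafToPresheaf (J S) (Type (u + 1))).preimageIso
      (X := equalizer p₁ p₂) (Y := (⟨G, hs'⟩ : Sp S)) (asIso l).symm) _⟩

/-- A chart quasi-affine on affine opens makes maps from affine schemes quasi-affine. -/
theorem qaff_of_chart (hΔ : AlgSt.RepByAlgSp1 (FibCat.diag (FibCat.toSelf 𝒳))) {U : Over S}
    (a : FibCat.overCat U ⥤ᵇ 𝒳) (ha : AlgSt.RepByAlgSpWith (LocP @Smooth) a)
    (has : AlgSt.RepByAlgSpWith IsSurjectiveMor a)
    (hV : ∀ (V : U.left.Opens), IsAffineOpen V → AlgSt.RepByAlgSpWith IsQuasiAffineMor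
      (BasedFunctor.comp (AlgSt.overMap (Over.homMk V.ι rfl : Over.mk (V.ι ≫ U.hom) ⟶ U)) a))
    (T : Over S) [IsAffine T.left] (x : FibCat.overCat T ⥤ᵇ 𝒳) : AlgSt.RepByAlgSpWith IsQuasiAffineMor x := by
  have hx := repByAlgSp1_of_diag hΔ x
  refine repByAlgSpWith_iff.2 ⟨faithful_of_repByAlgSp1 hx, fun Z y => ?_⟩
  obtain ⟨Z', l, u, hl, hls, ⟨β⟩⟩ := exists_overMap_iso ha has y
  haveI := hl
  haveI := hls
  let ι := { p : Z'.left.affineOpens × U.left.affineOpens // p.1.1 ≤ u.left ⁻¹ᵁ p.2.1 }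
  let Tf : ι → Over S := fun p => Over.mk (p.1.1.1.ι ≫ Z'.hom)
  let j : ∀ p : ι, Tf p ⟶ Z' := fun p => Over.homMk p.1.1.1.ι rfl
  refine fibHas_of_family isLocalOnBase_fppf hx Tf (fun p => j p ≫ l)
    (fun p => inferInstanceAs (Flat (p.1.1.1.ι ≫ l.left)))
    (fun p => inferInstanceAs (LocallyOfFinitePresentation (p.1.1.1.ι ≫ l.left))) (fun z => ?_) y fun p => ?_
  · obtain ⟨z', rfl⟩ := l.left.surjective z
    obtain ⟨V, hVa, hzV, -⟩ := exists_isAffineOpen_mem_and_subset (show u.left z' ∈ (⊤ : U.left.Opens) from trivial)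
    obtain ⟨A, hA, hzA, hle⟩ := exists_isAffineOpen_mem_and_subset (show z' ∈ u.left ⁻¹ᵁ V from hzV)
    exact ⟨⟨(⟨A, hA⟩, ⟨V, hVa⟩), hle⟩, ⟨z', hzA⟩, rfl⟩
  let V : Over S := Over.mk (p.1.2.1.ι ≫ U.hom)
  let v : V ⟶ U := Over.homMk p.1.2.1.ι rfl
  let u' : Tf p ⟶ V := Over.homMk (u.left.resLE p.1.2.1 p.1.1.1 p.2) (by
    change u.left.resLE _ _ p.2 ≫ p.1.2.1.ι ≫ U.hom = p.1.1.1.ι ≫ Z'.hom
    rw [Scheme.Hom.resLE_comp_ι_assoc, Over.w u])
  have hju : j p ≫ u = u' ≫ v := Over.OverMorphism.ext (Scheme.Hom.resLE_comp_ι _ p.2).symm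
  let av := BasedFunctor.comp (AlgSt.overMap v) a
  refine fibHas_congr (y := BasedFunctor.comp (AlgSt.overMap u') av) ?_ (fibHas_restr hPb_qaff hx u' av ?_)
  · exact (wR (overMapComp u' v) a).trans ((eqToIso (by rw [hju])).trans ((wR (overMapComp (j p) u) a).symm.trans
      ((wL (AlgSt.overMap (j p)) β.symm).trans (wR (overMapComp (j p) l) y))))
  haveI : IsAffine V.left := p.1.2.2
  obtain ⟨hs, hA, hq⟩ := (repByAlgSpWith_iff.1 (hV p.1.2.1 p.1.2.2)).2 T x
  obtain ⟨W, hW, ⟨eW⟩⟩ := exists_qaff_scheme hq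
  haveI := hW
  haveI := isIso_clFun_of_bijective (swapF x av) (bijective_swapF x av)
  obtain ⟨hs', hA'⟩ := IsAlgSpaceP.of_iso ⟨hs, hA⟩ (asIso (clFun (swapF x av)))
  exact ⟨hs', hA', isQuasiAffineMor_of_qaff_scheme
    (eW ≪≫ (fullyFaithfulSheafToPresheaf (J S) (Type (u + 1))).preimageIso
      (X := (⟨fib x av, hs⟩ : Sp S)) (Y := (⟨fib av x, hs'⟩ : Sp S)) (asIso (clFun (swapF x av)))) _⟩

end Groth.Agent.QAffDiagLib
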